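import Mathlib
import Groth.Agent.AnPts.Etale

/-! A non-constant invertible regular function has no continuous logarithm on complex points. -/

set_option autoImplicit false
set_option backward.isDefEq.respectTransparency false

open Polynomial Topology Filter
open scoped IntermediateField

namespace Groth.Agent.AnLogLib

/-- The residue field of a maximal point of the generic fibre of a transcendental element. -/
theorem exists_field {B : Type*} [CommRing B] [IsDomain B] [Algebra ℂ[X] B] [Algebra.FiniteType ℂ[X] B]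
    (hinj : Function.Injective (algebraMap ℂ[X] B)) :
    ∃ (M : Ideal (TensorProduct ℂ[X] (FractionRing ℂ[X]) B)), M.IsMaximal := by
  haveI : Nontrivial (TensorProduct ℂ[X] (FractionRing ℂ[X]) B) := by
    have hli : Function.Injective (Algebra.ofId ℂ[X] (FractionRing B)) := by
      change Function.Injective (algebraMap ℂ[X] (FractionRing B))
      rw [IsScalarTower.algebraMap_eq ℂ[X] B (FractionRing B)]
      exact (IsFractionRing.injective B (FractionRing B)).comp hinj
    let f : FractionRing ℂ[X] →ₐ[ℂ[X]] FractionRing B := IsFractionRing.liftAlgHom hli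
    exact (Algebra.TensorProduct.lift f (IsScalarTower.toAlgHom ℂ[X] B (FractionRing B))
      (fun _ _ => mul_comm _ _)).toRingHom.domain_nontrivial
  exact Ideal.exists_maximal (TensorProduct ℂ[X] (FractionRing ℂ[X]) B)

/-- The curve attached to a finite extension of the field of rational functions. -/
theorem exists_curve_of_field {B : Type*} [CommRing B] [Algebra ℂ B] [Algebra.FiniteType ℂ B]
    [Algebra ℂ[X] B] [IsScalarTower ℂ ℂ[X] B]
    (L : Type*) [Field L] [Algebra (FractionRing ℂ[X]) L] [Module.Finite (FractionRing ℂ[X]) L]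
    [Algebra ℂ[X] L] [IsScalarTower ℂ[X] (FractionRing ℂ[X]) L] (θ : B →ₐ[ℂ[X]] L) :
    ∃ (P : ℂ[X][X]) (g : ℂ[X]), P.Monic ∧ 0 < P.natDegree ∧ g ≠ 0 ∧
      (∀ z : ℂ, g.eval z ≠ 0 → (P.map (evalRingHom z)).Separable) ∧
      ∃ ψ : {p : ℂ × ℂ // g.eval p.1 ≠ 0 ∧ (P.map (evalRingHom p.1)).eval p.2 = 0} → (B →ₐ[ℂ] ℂ),
        (∀ b, Continuous fun p => ψ p b) ∧ ∀ p, ψ p (algebraMap ℂ[X] B X) = p.1.1 := by
  classical
  let K := FractionRing ℂ[X]
  haveI : CharZero K := charZero_of_injective_algebraMap (algebraMap ℂ K).injective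
  haveI : Module.IsTorsionFree ℂ[X] L := Module.isTorsionFree_iff_algebraMap_injective.mpr (by
    rw [IsScalarTower.algebraMap_eq ℂ[X] K L]
    exact (algebraMap K L).injective.comp (IsFractionRing.injective ℂ[X] K))
  obtain ⟨α₀, hα₀⟩ := Field.exists_primitive_element K L
  haveI : Algebra.IsAlgebraic ℂ[X] L :=
    ((IsFractionRing.comap_isAlgebraic_iff (A := ℂ[X]) (K := K) (C := L))).2 inferInstance
  obtain ⟨r₀, hr₀, hint⟩ := IsAlgebraic.exists_integral_multiple (Algebra.IsAlgebraic.isAlgebraic (R := ℂ[X]) α₀)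
  set α : L := r₀ • α₀ with hαdef
  have hα : K⟮α⟯ = ⊤ := by
    rw [eq_top_iff, ← hα₀, IntermediateField.adjoin_simple_le_iff]
    have hne : algebraMap ℂ[X] K r₀ ≠ 0 := fun h => hr₀ (IsFractionRing.injective ℂ[X] K (h.trans (map_zero _).symm))
    have : α₀ = (algebraMap ℂ[X] K r₀)⁻¹ • α := by
      rw [hαdef, ← algebraMap_smul K r₀ α₀, smul_smul, inv_mul_cancel₀ hne, one_smul]
    rw [this]
    exact IntermediateField.smul_mem _ (IntermediateField.mem_adjoin_simple_self K α)
  let P := minpoly ℂ[X] α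
  have hPm : P.Monic := minpoly.monic hint
  have hPK : minpoly K α = P.map (algebraMap ℂ[X] K) :=
    minpoly.isIntegrallyClosed_eq_field_fractions' K hint
  have hPd : 0 < P.natDegree := minpoly.natDegree_pos hint
  -- clearing denominators
  have hclear : ∀ x : L, ∃ (h : ℂ[X]) (Q : ℂ[X][X]), h ≠ 0 ∧ h • x = aeval α Q := by
    intro x
    obtain ⟨q, hq⟩ : ∃ q : K[X], aeval α q = x := by
      have hmem : x ∈ Algebra.adjoin K ({α} : Set L) := by
        rw [← IntermediateField.adjoin_simple_toSubalgebra_of_isAlgebraic (IsAlgebraic.of_finite K α), hα]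
        trivial
      rw [Algebra.adjoin_singleton_eq_range_aeval] at hmem
      exact hmem
    obtain ⟨⟨b, hb⟩, hbq⟩ := IsLocalization.integerNormalization_map_to_map (nonZeroDivisors ℂ[X]) q
    refine ⟨b, IsLocalization.integerNormalization (nonZeroDivisors ℂ[X]) q, nonZeroDivisors.ne_zero hb, ?_⟩
    rw [← aeval_map_algebraMap K α, hbq, ← hq]
    rw [← algebraMap_smul K b q, map_smul, algebraMap_smul]
  obtain ⟨s, hs⟩ := Algebra.FiniteType.out (R := ℂ) (A := B)
  choose hh QQ hh0 hQQ using fun b : B => hclear (θ b)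
  let h : ℂ[X] := ∏ b ∈ s, hh b
  have hh' : h ≠ 0 := Finset.prod_ne_zero_iff.2 fun b _ => hh0 b
  have hall : ∀ b : B, ∃ (n : ℕ) (Q : ℂ[X][X]), h ^ n • θ b = aeval α Q := by
    intro b
    have hb : b ∈ Algebra.adjoin ℂ (s : Set B) := hs ▸ Algebra.mem_top
    induction hb using Algebra.adjoin_induction with
    | mem x hx =>
      refine ⟨1, C (∏ b ∈ s.erase x, hh b) * QQ x, ?_⟩
      rw [pow_one, map_mul, aeval_C, ← hQQ, ← Algebra.smul_def, smul_smul,
        Finset.prod_erase_mul s hh hx]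
    | algebraMap c =>
      refine ⟨0, C (C c), ?_⟩
      rw [pow_zero, one_smul, aeval_C, IsScalarTower.algebraMap_apply ℂ ℂ[X] B, AlgHom.commutes,
        Polynomial.algebraMap_eq]
    | add x y _ _ hx hy =>
      obtain ⟨n, Q, hQ⟩ := hx; obtain ⟨m, Q', hQ'⟩ := hy
      refine ⟨n + m, C (h ^ m) * Q + C (h ^ n) * Q', ?_⟩
      simp only [map_add, map_mul, aeval_C, ← hQ, ← hQ', Algebra.smul_def, map_pow, pow_add]
      ring
    | mul x y _ _ hx hy =>
      obtain ⟨n, Q, hQ⟩ := hx; obtain ⟨m, Q', hQ'⟩ := hy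
      refine ⟨n + m, Q * Q', ?_⟩
      simp only [map_mul, ← hQ, ← hQ', Algebra.smul_def, map_pow, pow_add]
      ring
  -- separability
  obtain ⟨r, A₁, A₂, hr, hbez⟩ : ∃ (r : ℂ[X]) (A₁ A₂ : ℂ[X][X]), r ≠ 0 ∧
      A₁ * P + A₂ * derivative P = C r := by
    obtain ⟨a, b, hab⟩ := (minpoly.irreducible (IsIntegral.of_finite K α)).separable
    obtain ⟨⟨ca, hca⟩, ha⟩ := IsLocalization.integerNormalization_map_to_map (nonZeroDivisors ℂ[X]) a
    obtain ⟨⟨cb, hcb⟩, hb⟩ := IsLocalization.integerNormalization_map_to_map (nonZeroDivisors ℂ[X]) b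
    refine ⟨ca * cb, C cb * IsLocalization.integerNormalization (nonZeroDivisors ℂ[X]) a,
      C ca * IsLocalization.integerNormalization (nonZeroDivisors ℂ[X]) b,
      mul_ne_zero (nonZeroDivisors.ne_zero hca) (nonZeroDivisors.ne_zero hcb), ?_⟩
    apply Polynomial.map_injective _ (IsFractionRing.injective ℂ[X] K)
    rw [hPK] at hab
    simp only [Polynomial.map_add, Polynomial.map_mul, Polynomial.map_C, ← derivative_map, ha, hb,
      Algebra.smul_def, map_mul, Polynomial.algebraMap_def, RingHom.comp_apply]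
    linear_combination (C (algebraMap ℂ[X] K ca) * C (algebraMap ℂ[X] K cb)) * hab
  refine ⟨P, h * r, hPm, hPd, mul_ne_zero hh' hr, ?_, ?_⟩
  · intro z hz
    rw [eval_mul] at hz
    have he := congrArg (Polynomial.map (evalRingHom z)) hbez
    simp only [Polynomial.map_add, Polynomial.map_mul, Polynomial.map_C, ← derivative_map, coe_evalRingHom] at he
    refine ⟨C (r.eval z)⁻¹ * A₁.map (evalRingHom z), C (r.eval z)⁻¹ * A₂.map (evalRingHom z), ?_⟩
    rw [mul_assoc, mul_assoc, ← mul_add, he, ← C_mul, inv_mul_cancel₀ (right_ne_zero_of_mul hz), C_1]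
  choose nn Q hQ using hall
  let val : ℂ × ℂ → B → ℂ := fun p b => ((Q b).map (evalRingHom p.1)).eval p.2 / (h.eval p.1) ^ nn b
  let T := {p : ℂ × ℂ // (h * r).eval p.1 ≠ 0 ∧ (P.map (evalRingHom p.1)).eval p.2 = 0}
  have hspec : ∀ (p : T) (b : B) (n : ℕ) (R : ℂ[X][X]), h ^ n • θ b = aeval α R →
      val p.1 b = (R.map (evalRingHom p.1.1)).eval p.1.2 / (h.eval p.1.1) ^ n := by
    intro p b n R hR
    have hp : h.eval p.1.1 ≠ 0 := left_ne_zero_of_mul (eval_mul.symm.trans_ne p.2.1)
    have h0 : aeval α (C (h ^ n) * Q b - C (h ^ nn b) * R) = 0 := by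
      rw [map_sub, map_mul, map_mul, aeval_C, aeval_C, ← hQ, ← hR, Algebra.smul_def, Algebra.smul_def]
      ring
    obtain ⟨S, hS⟩ := minpoly.isIntegrallyClosed_dvd hint h0
    have := congrArg (fun S : ℂ[X][X] => (S.map (evalRingHom p.1.1)).eval p.1.2) hS
    simp only [Polynomial.map_sub, Polynomial.map_mul, Polynomial.map_C, eval_sub, eval_mul, eval_C,
      coe_evalRingHom, eval_pow] at this
    rw [show ((P.map (evalRingHom p.1.1)).eval p.1.2) = 0 from p.2.2, zero_mul, sub_eq_zero] at this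
    simp only [val]
    rw [div_eq_div_iff (pow_ne_zero _ hp) (pow_ne_zero _ hp)]
    linear_combination this
  let ψ : T → (B →ₐ[ℂ] ℂ) := fun p =>
    { toFun := val p.1
      map_one' := by rw [hspec p 1 0 1 (by simp)]; simp
      map_mul' := fun x y => by
        rw [hspec p (x * y) (nn x + nn y) (Q x * Q y) (by
          simp only [map_mul, ← hQ, Algebra.smul_def, map_pow, pow_add]; ring)]
        simp only [val, Polynomial.map_mul, eval_mul, pow_add, div_mul_div_comm]
      map_zero' := by rw [hspec p 0 0 0 (by simp)]; simp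
      map_add' := fun x y => by
        have hp : h.eval p.1.1 ≠ 0 := left_ne_zero_of_mul (eval_mul.symm.trans_ne p.2.1)
        rw [hspec p (x + y) (nn x + nn y) (C (h ^ nn y) * Q x + C (h ^ nn x) * Q y) (by
          simp only [map_add, map_mul, aeval_C, ← hQ, Algebra.smul_def, map_pow, pow_add]; ring)]
        simp only [val, Polynomial.map_add, Polynomial.map_mul, Polynomial.map_C, eval_add, eval_mul, eval_C,
          coe_evalRingHom, eval_pow, pow_add]
        field_simp
      commutes' := fun c => by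
        rw [hspec p (algebraMap ℂ B c) 0 (C (C c)) (by
          rw [pow_zero, one_smul, aeval_C, IsScalarTower.algebraMap_apply ℂ ℂ[X] B, AlgHom.commutes,
            Polynomial.algebraMap_eq])]
        simp }
  refine ⟨ψ, fun b => ?_, fun p => ?_⟩
  · have hc : ∀ S : ℂ[X][X], Continuous fun p : ℂ × ℂ => (S.map (evalRingHom p.1)).eval p.2 := by
      intro S
      induction S using Polynomial.induction_on' with
      | add a b ha hb => simpa only [Polynomial.map_add, eval_add] using ha.fun_add hb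
      | monomial n a =>
        simp only [Polynomial.map_monomial, eval_monomial, coe_evalRingHom]
        fun_prop
    exact ((hc (Q b)).comp continuous_subtype_val).div₀ (((h.continuous).comp
      (continuous_fst.comp continuous_subtype_val)).pow _)
      fun p => pow_ne_zero _ (left_ne_zero_of_mul (eval_mul.symm.trans_ne p.2.1))
  · show val p.1 (algebraMap ℂ[X] B X) = p.1.1
    rw [hspec p (algebraMap ℂ[X] B X) 0 (C X) (by rw [pow_zero, one_smul, aeval_C, AlgHom.commutes])]
    simp

/-- A monic two-variable equation, separable away from finitely many values of the first variable,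
whose zero set maps to the points of `B` compatibly with `u`. -/
theorem exists_curve {B : Type*} [CommRing B] [IsDomain B] [Algebra ℂ B] [Algebra.FiniteType ℂ B]
    (u : B) (hu : ∀ c : ℂ, u ≠ algebraMap ℂ B c) :
    ∃ (P : ℂ[X][X]) (g : ℂ[X]), P.Monic ∧ 0 < P.natDegree ∧ g ≠ 0 ∧
      (∀ z : ℂ, g.eval z ≠ 0 → (P.map (evalRingHom z)).Separable) ∧
      ∃ ψ : {p : ℂ × ℂ // g.eval p.1 ≠ 0 ∧ (P.map (evalRingHom p.1)).eval p.2 = 0} → (B →ₐ[ℂ] ℂ),
        (∀ b, Continuous fun p => ψ p b) ∧ ∀ p, ψ p u = p.1.1 := by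
  have htr : Transcendental ℂ u := fun halg => by
    have hint := halg.isIntegral
    obtain ⟨c, hc⟩ : ∃ c, algebraMap ℂ B c = u := by
      have hd := IsAlgClosed.degree_eq_one_of_irreducible ℂ (minpoly.irreducible hint)
      exact minpoly.degree_eq_one_iff.1 hd
    exact hu c hc.symm
  letI : Algebra ℂ[X] B := (aeval u).toRingHom.toAlgebra
  haveI : IsScalarTower ℂ ℂ[X] B := IsScalarTower.of_algebraMap_eq fun c => (aeval_C u c).symm
  have hinj : Function.Injective (algebraMap ℂ[X] B) := transcendental_iff_injective.1 htr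
  haveI : Algebra.FiniteType ℂ[X] B := Algebra.FiniteType.of_restrictScalars_finiteType ℂ ℂ[X] B
  obtain ⟨M, hM⟩ := exists_field hinj
  letI := Ideal.Quotient.field M
  haveI : Algebra.FiniteType (FractionRing ℂ[X]) (TensorProduct ℂ[X] (FractionRing ℂ[X]) B ⧸ M) :=
    Algebra.FiniteType.of_surjective (Ideal.Quotient.mkₐ (FractionRing ℂ[X]) M) Ideal.Quotient.mk_surjective
  haveI : Module.Finite (FractionRing ℂ[X]) (TensorProduct ℂ[X] (FractionRing ℂ[X]) B ⧸ M) :=
    finite_of_finite_type_of_isJacobsonRing _ _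
  obtain ⟨P, g, h1, h2, h3, h4, ψ, h5, h6⟩ := exists_curve_of_field (TensorProduct ℂ[X] (FractionRing ℂ[X]) B ⧸ M)
    ((Ideal.Quotient.mkₐ ℂ[X] M).comp Algebra.TensorProduct.includeRight)
  refine ⟨P, g, h1, h2, h3, h4, ψ, h5, fun p => ?_⟩
  have hX : algebraMap ℂ[X] B X = u := aeval_X u
  rw [← hX]
  exact h6 p

/-- The sum over the roots of a separable monic family is continuous. -/
theorem continuous_sum_roots {T : Type*} [TopologicalSpace T] {d : ℕ} (p : T → ℂ[X])
    (hm : ∀ t, (p t).Monic) (hdeg : ∀ t, (p t).natDegree = d) (hd : 0 < d) (hsep : ∀ t, (p t).Separable)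
    (hc : ∀ w : ℂ, Continuous fun t => (p t).eval w)
    (G : {q : T × ℂ // (p q.1).eval q.2 = 0} → ℂ) (hG : Continuous G) :
    Continuous fun t => ∑ w ∈ (p t).roots.toFinset.attach,
      G ⟨(t, w.1), (mem_roots (hm t).ne_zero).1 (Multiset.mem_toFinset.1 w.2)⟩ := by
  classical
  let F : T → ℂ → ℂ := fun t w => if hw : (p t).eval w = 0 then G ⟨(t, w), hw⟩ else 0
  have hsum : (fun t => ∑ w ∈ (p t).roots.toFinset.attach,
      G ⟨(t, w.1), (mem_roots (hm t).ne_zero).1 (Multiset.mem_toFinset.1 w.2)⟩) =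
      fun t => ∑ w ∈ (p t).roots.toFinset, F t w := by
    funext t
    rw [← Finset.sum_attach _ (F t)]
    refine Finset.sum_congr rfl fun w _ => ?_
    have h : (p t).eval w.1 = 0 := (mem_roots (hm t).ne_zero).1 (Multiset.mem_toFinset.1 w.2)
    simp only [F, dif_pos h]
  rw [hsum]
  have hcard : ∀ t, (p t).roots.toFinset.card = d := fun t => by
    rw [Multiset.toFinset_card_of_nodup (nodup_roots (hsep t)),
      splits_iff_card_roots.1 (IsAlgClosed.splits (p t)), hdeg]
  rw [continuous_iff_continuousAt]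
  intro t₀
  choose ρ hρ hρn using fun (w : ℂ) (t : T) =>
    AnPts.exists_root_near (hm t) (by rw [hdeg]; exact hd) w
  have hρ0 : ∀ w, (p t₀).eval w = 0 → ρ w t₀ = w ∧ ContinuousAt (ρ w) t₀ := by
    intro w hw
    have h1 : Tendsto (fun t => ‖(p t).eval w‖) (𝓝 t₀) (𝓝 0) := by
      simpa [hw] using ((hc w).norm).tendsto t₀
    have h2 : Tendsto (fun t => ‖ρ w t - w‖ ^ d) (𝓝 t₀) (𝓝 0) :=
      squeeze_zero (fun t => by positivity) (fun t => by simpa [hdeg] using hρn w t) h1
    have h0 : ρ w t₀ = w := by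
      have h := hρn w t₀
      rw [hw, norm_zero, hdeg] at h
      exact sub_eq_zero.1 (norm_eq_zero.1 (pow_eq_zero_iff hd.ne' |>.1 (le_antisymm h (by positivity))))
    refine ⟨h0, ?_⟩
    rw [ContinuousAt, h0, Metric.tendsto_nhds]
    intro ε hε
    filter_upwards [(Metric.tendsto_nhds.1 h2) (ε ^ d) (pow_pos hε d)] with t ht
    rw [dist_eq_norm]
    rw [Real.dist_eq, sub_zero, abs_of_nonneg (by positivity)] at ht
    exact lt_of_pow_lt_pow_left₀ d hε.le ht
  set W := (p t₀).roots.toFinset with hW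
  have hW0 : ∀ w ∈ W, (p t₀).eval w = 0 := fun w hw => (mem_roots (hm t₀).ne_zero).1 (Multiset.mem_toFinset.1 hw)
  have hinj : ∀ᶠ t in 𝓝 t₀, Set.InjOn (fun w => ρ w t) W := by
    have hev : ∀ᶠ t in 𝓝 t₀, ∀ w ∈ W, ∀ v ∈ W, w ≠ v → ρ w t ≠ ρ v t := by
      rw [Finset.eventually_all]; intro w hw
      rw [Finset.eventually_all]; intro v hv
      by_cases h : w = v
      · exact .of_forall fun t hne => absurd h hne
      · have := ((hρ0 w (hW0 w hw)).2.prodMk (hρ0 v (hW0 v hv)).2).preimage_mem_nhds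
          ((isClosed_diagonal.isOpen_compl).mem_nhds (x := (ρ w t₀, ρ v t₀))
            (by simpa [(hρ0 w (hW0 w hw)).1, (hρ0 v (hW0 v hv)).1] using h))
        filter_upwards [this] with t ht _
        simpa using ht
    filter_upwards [hev] with t ht w hw v hv hwv
    by_contra h
    exact ht w hw v hv h hwv
  have heq : (fun t => ∑ w ∈ (p t).roots.toFinset, F t w) =ᶠ[𝓝 t₀] fun t => ∑ w ∈ W, F t (ρ w t) := by
    filter_upwards [hinj] with t ht
    have himg : W.image (fun w => ρ w t) = (p t).roots.toFinset := by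
      apply Finset.eq_of_subset_of_card_le
      · intro x hx
        obtain ⟨w, -, rfl⟩ := Finset.mem_image.1 hx
        exact Multiset.mem_toFinset.2 ((mem_roots (hm t).ne_zero).2 (hρ w t))
      · rw [Finset.card_image_of_injOn ht, hcard, hcard]
    rw [← himg, Finset.sum_image fun a ha b hb h => ht ha hb h]
  refine ContinuousAt.congr ?_ heq.symm
  refine tendsto_finsetSum W fun w hw => ?_
  have hFG : ∀ t, F t (ρ w t) = G ⟨(t, ρ w t), hρ w t⟩ := fun t => dif_pos (hρ w t)
  have hca : ContinuousAt (fun t => (⟨(t, ρ w t), hρ w t⟩ : {q : T × ℂ // (p q.1).eval q.2 = 0})) t₀ :=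
    tendsto_subtype_rng.2 (continuousAt_id.prodMk (hρ0 w (hW0 w hw)).2)
  simp only [hFG]
  exact hG.continuousAt.comp hca

/-- A non-constant element of a finitely generated domain over `ℂ` has no continuous logarithm on the
space of complex points. -/
theorem no_log {B : Type*} [CommRing B] [IsDomain B] [Algebra ℂ B] [Algebra.FiniteType ℂ B]
    (u : B) (hu : ∀ c : ℂ, u ≠ algebraMap ℂ B c) (G : (B →ₐ[ℂ] ℂ) → ℂ)
    (hG : ∀ ψ, Complex.exp (G ψ) = ψ u)
    (hGc : ∀ {T : Type} [TopologicalSpace T] (ψ : T → (B →ₐ[ℂ] ℂ)),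
      (∀ b, Continuous fun t => ψ t b) → Continuous fun t => G (ψ t)) : False := by
  classical
  obtain ⟨P, g, hPm, hPd, hg, hsep, ψ, hψc, hψu⟩ := exists_curve u hu
  obtain ⟨R, hR⟩ : ∃ R : ℕ, ∀ n ∈ (g.roots.toFinset.image fun z => ⌈‖z‖⌉₊) ∪ {0}, n < R :=
    ⟨((g.roots.toFinset.image fun z => ⌈‖z‖⌉₊) ∪ {0}).sup id + 1, fun n hn => Nat.lt_succ_of_le (Finset.le_sup (f := id) hn)⟩
  have hR0 : (0 : ℝ) < R := by exact_mod_cast hR 0 (by simp)
  have hcirc : ∀ z : ℂ, ‖z‖ = R → g.eval z ≠ 0 := by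
    intro z hz h0
    have hlt := hR ⌈‖z‖⌉₊ (Finset.mem_union_left _
      (Finset.mem_image.2 ⟨z, Multiset.mem_toFinset.2 ((mem_roots hg).2 h0), rfl⟩))
    have : (⌈‖z‖⌉₊ : ℝ) < R := by exact_mod_cast hlt
    linarith [Nat.le_ceil ‖z‖]
  let zt : ℝ → ℂ := fun t => (R : ℂ) * Complex.exp (t * Complex.I)
  have hzt : ∀ t, g.eval (zt t) ≠ 0 := fun t => hcirc _ (by simp [zt, Complex.norm_exp_ofReal_mul_I])
  let p : ℝ → ℂ[X] := fun t => P.map (evalRingHom (zt t))
  have hm : ∀ t, (p t).Monic := fun t => hPm.map _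
  have hdeg : ∀ t, (p t).natDegree = P.natDegree := fun t => hPm.natDegree_map _
  have hztc : Continuous zt := by fun_prop
  have hc : ∀ w : ℂ, Continuous fun t => (p t).eval w := by
    intro w
    have : (fun t => (p t).eval w) = fun t => (P.eval (C w)).eval (zt t) := by
      funext t
      simp only [p]
      conv_lhs => rw [show w = evalRingHom (zt t) (C w) by simp, eval_map, eval₂_at_apply]
      simp
    rw [this]
    exact (P.eval (C w)).continuous.comp hztc
  let ι : {q : ℝ × ℂ // (p q.1).eval q.2 = 0} → {q : ℂ × ℂ // g.eval q.1 ≠ 0 ∧ (P.map (evalRingHom q.1)).eval q.2 = 0} :=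
    fun q => ⟨(zt q.1.1, q.1.2), hzt _, q.2⟩
  have hι : Continuous ι := Continuous.subtype_mk
    ((hztc.comp (continuous_fst.comp continuous_subtype_val)).prodMk (continuous_snd.comp continuous_subtype_val)) _
  have hG' : Continuous fun q => G (ψ (ι q)) := hGc (fun q => ψ (ι q)) fun b => (hψc b).comp hι
  let S : ℝ → ℂ := fun t => ∑ w ∈ (p t).roots.toFinset.attach,
      G (ψ (ι ⟨(t, w.1), (mem_roots (hm t).ne_zero).1 (Multiset.mem_toFinset.1 w.2)⟩))
  have hS : Continuous S := continuous_sum_roots p hm hdeg hPd (fun t => hsep _ (hzt t)) hc _ hG'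
  have hcard : ∀ t, (p t).roots.toFinset.card = P.natDegree := fun t => by
    rw [Multiset.toFinset_card_of_nodup (nodup_roots (hsep _ (hzt t))),
      splits_iff_card_roots.1 (IsAlgClosed.splits (p t)), hdeg]
  have hexpS : ∀ t, Complex.exp (S t) = zt t ^ P.natDegree := fun t => by
    simp only [S, Complex.exp_sum, hG, hψu, ι, Finset.prod_const, Finset.card_attach, hcard]
  let S' : ℝ → ℂ := fun t => (P.natDegree : ℂ) * (Real.log R + t * Complex.I)
  have hexpS' : ∀ t, Complex.exp (S' t) = zt t ^ P.natDegree := fun t => by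
    simp only [S', zt, Complex.exp_nat_mul, Complex.exp_add, ← Complex.ofReal_exp, Real.exp_log hR0]
    simp
  have hper : S (2 * Real.pi) = S 0 := by
    have hz : zt (2 * Real.pi) = zt 0 := by simp [zt, Complex.exp_two_pi_mul_I]
    have hp : p (2 * Real.pi) = p 0 := by simp only [p, hz]
    let F : ℂ → ℂ → ℂ := fun z w => if h : g.eval z ≠ 0 ∧ (P.map (evalRingHom z)).eval w = 0 then
      G (ψ ⟨(z, w), h⟩) else 0
    have hSF : ∀ t, S t = ∑ w ∈ (p t).roots.toFinset, F (zt t) w := fun t => by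
      rw [← Finset.sum_attach _ (F (zt t))]
      refine Finset.sum_congr rfl fun w _ => ?_
      have h : g.eval (zt t) ≠ 0 ∧ (P.map (evalRingHom (zt t))).eval w.1 = 0 :=
        ⟨hzt t, (mem_roots (hm t).ne_zero).1 (Multiset.mem_toFinset.1 w.2)⟩
      simp only [F, ι, dif_pos h]
    rw [hSF, hSF, hp, hz]
  -- the difference of two logarithms is constant
  obtain ⟨k, hk⟩ := Complex.exp_eq_exp_iff_exists_int.1 ((hexpS 0).trans (hexpS' 0).symm)
  have hconst : S = fun t => S' t + k * (2 * Real.pi * Complex.I) :=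
    Complex.isCoveringMap_exp.eq_of_comp_eq hS (by fun_prop) (by
      funext t
      apply Subtype.ext
      simp only [Function.comp_apply, Complex.exp_add, Complex.exp_int_mul_two_pi_mul_I, mul_one]
      exact (hexpS t).trans (hexpS' t).symm) 0 hk
  rw [hconst] at hper
  simp only [S', Complex.ofReal_mul, Complex.ofReal_ofNat, Complex.ofReal_zero, zero_mul, add_zero] at hper
  have : (P.natDegree : ℂ) * (2 * (Real.pi : ℂ) * Complex.I) = 0 := by linear_combination hper
  simp [hPd.ne', Real.pi_ne_zero] at this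

end Groth.Agent.AnLogLib
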